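import Groth.Agent.Torus46.Poly
import Groth.Agent.KLoc46.Seq
import Groth.Agent.GSS45.ClosedHom

/-!
Restriction from the affine line to the torus is bijective on `K₀` of coherent modules.
-/

set_option autoImplicit false
set_option linter.unusedSectionVars false
set_option linter.style.haveILetI false
set_option linter.overlappingInstances false
set_option backward.isDefEq.respectTransparency.types false

noncomputable section

universe u

open CategoryTheory CategoryTheory.Limits AlgebraicGeometry TopologicalSpace Opposite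
open Groth.Agent.QC70

namespace Groth.Agent.Torus46

variable (X : Scheme.{u})

/-- The affine line. -/
abbrev A1 : Scheme.{u} := 𝔸(ULift.{u} (Fin 1); X)

/-- The coordinate. -/
abbrev tc : Γ(A1 X, ⊤) := AffineSpace.coord X (ULift.up (0 : Fin 1))

/-- The ideal of the zero section. -/
def zI : (A1 X).IdealSheafData := Scheme.IdealSheafData.ofIdealTop (Ideal.span {tc X})

theorem resO_tc_mem (W : (A1 X).affineOpens) :
    resO (A1 X) (le_top : W.1 ≤ ⊤) (tc X) ∈ (zI X).ideal W := by
  rw [zI, Scheme.IdealSheafData.ofIdealTop_ideal]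
  exact Ideal.mem_map_of_mem _ (Ideal.mem_span_singleton_self _)

theorem range_zI : Set.range (zI X).subschemeι = ((A1 X).basicOpen (tc X) : Set (A1 X))ᶜ := by
  rw [Scheme.IdealSheafData.range_subschemeι, zI, Scheme.IdealSheafData.coe_support_ofIdealTop,
    Scheme.zeroLocus_span, Scheme.zeroLocus_singleton]

theorem appTop_zI : (zI X).subschemeι.appTop (tc X) = 0 := by
  let i := (zI X).subschemeι
  let Z := (zI X).subscheme
  refine section_ext (Coh.structureModule Z) _ _ fun z _ => ?_
  obtain ⟨_, ⟨W, hW, rfl⟩, hzW, -⟩ :=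
    (A1 X).isBasis_affineOpens.exists_subset_of_mem_open (Set.mem_univ (i z)) isOpen_univ
  refine ⟨i ⁻¹ᵁ W, le_top, hzW, ?_⟩
  have hm : i.app W (resO (A1 X) (le_top : W ≤ ⊤) (tc X)) = 0 := by
    refine i.ideal_ker_le ⟨W, hW⟩ ?_
    rw [Scheme.IdealSheafData.ker_subschemeι]
    exact resO_tc_mem X ⟨W, hW⟩
  have hn := congr((CommRingCat.Hom.hom $(i.naturality (homOfLE (le_top : W ≤ ⊤)).op)) (tc X))
  simp only [CommRingCat.hom_comp, RingHom.comp_apply] at hn
  exact (hn.symm.trans hm).trans (res_zero (M := Coh.structureModule Z) le_top).symm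

/-- The zero section. -/
def zsec : X ⟶ A1 X := AffineSpace.homOfVector (𝟙 X) fun _ => 0

theorem zI_le_ker_zsec : (zI X).subschemeι.ker ≤ (zsec X).ker := by
  rw [Scheme.IdealSheafData.ker_subschemeι]
  refine Scheme.IdealSheafData.le_ofIdeals_iff.2 fun W => ?_
  rw [zI, Scheme.IdealSheafData.ofIdealTop_ideal, Ideal.map_span, Ideal.span_le]
  rintro _ ⟨f, rfl, rfl⟩
  have hn := congr((CommRingCat.Hom.hom $((zsec X).naturality (homOfLE (le_top : W.1 ≤ ⊤)).op)) (tc X))
  simp only [CommRingCat.hom_comp, RingHom.comp_apply] at hn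
  refine RingHom.mem_ker.2 (hn.trans ?_)
  have h0 : (zsec X).appTop (tc X) = 0 := AffineSpace.homOfVector_appTop_coord _ _ _
  exact (congrArg _ h0).trans (map_zero _)

theorem isIso_zI_over : IsIso ((zI X).subschemeι ≫ (A1 X ↘ X)) := by
  let i := (zI X).subschemeι
  let θ : X ⟶ (zI X).subscheme := IsClosedImmersion.lift i (zsec X) (zI_le_ker_zsec X)
  have hθ : θ ≫ i = zsec X := IsClosedImmersion.lift_fac _ _ _
  have h1 : θ ≫ i ≫ (A1 X ↘ X) = 𝟙 X := by
    rw [← Category.assoc, hθ]
    exact AffineSpace.homOfVector_over _ _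
  have h2 : (i ≫ (A1 X ↘ X)) ≫ θ = 𝟙 _ := by
    rw [← cancel_mono i, Category.assoc, hθ, Category.id_comp]
    refine AffineSpace.hom_ext ?_ fun k => ?_
    · rw [Category.assoc, Category.assoc, zsec, AffineSpace.homOfVector_over, Category.comp_id]
    · obtain ⟨k⟩ := k
      obtain rfl : k = 0 := Subsingleton.elim _ _
      rw [Scheme.Hom.comp_appTop, Scheme.Hom.comp_appTop, CommRingCat.comp_apply]
      rw [show (zsec X).appTop (tc X) = 0 from AffineSpace.homOfVector_appTop_coord _ _ _, map_zero]
      exact (appTop_zI X).symm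
  exact ⟨θ, h2, h1⟩

/-- Scalar multiplication by the coordinate followed by the unit at the zero section is zero. -/
theorem smulT_unit (N : (A1 X).Modules) :
    smulT (tc X) N ≫ (Scheme.Modules.pullbackPushforwardAdjunction (zI X).subschemeι).unit.app N = 0 := by
  let i := (zI X).subschemeι
  refine Scheme.Modules.hom_ext _ _ fun W => ConcreteCategory.hom_ext _ _ fun s => ?_
  rw [Scheme.Modules.Hom.comp_app, ConcreteCategory.comp_apply, smulT_app,
    Scheme.Modules.Hom.app_smul]
  refine (QCqs72.pushforward_smul _ i (resO (A1 X) (le_top : W ≤ ⊤) (tc X)) _).trans ?_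
  have hn := congr((CommRingCat.Hom.hom $(i.naturality (homOfLE (le_top : W ≤ ⊤)).op)) (tc X))
  simp only [CommRingCat.hom_comp, RingHom.comp_apply] at hn
  rw [show i.app W (resO (A1 X) (le_top : W ≤ ⊤) (tc X)) = 0 from
    hn.trans ((congrArg _ (appTop_zI X)).trans (map_zero _)), zero_smul]
  rfl

theorem shortExact_smulT (M : X.Modules) [M.IsQuasicoherent] :
    (ShortComplex.mk (smulT (tc X) ((Scheme.Modules.pullback (A1 X ↘ X)).obj M))
      ((Scheme.Modules.pullbackPushforwardAdjunction (zI X).subschemeι).unit.app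
        ((Scheme.Modules.pullback (A1 X ↘ X)).obj M)) (smulT_unit X _)).ShortExact := by
  let i := (zI X).subschemeι
  let N := (Scheme.Modules.pullback (A1 X ↘ X)).obj M
  haveI : N.IsQuasicoherent := QCPull72.isQuasicoherent_pullback _ M
  let η := QCPull72.pullUnit i N
  have w : smulT (tc X) N ≫ η = 0 := smulT_unit X N
  have hex : (ShortComplex.mk (smulT (tc X) N) η w).Exact := by
    rw [ShortComplex.exact_iff_epi_kernel_lift]
    refine epi_of_locally_surjective _ fun W y q hq => ?_
    obtain ⟨_, ⟨U, hU, rfl⟩, hqU, hUW⟩ :=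
      (A1 X).isBasis_affineOpens.exists_subset_of_mem_open hq W.2
    let y' : Γ(kernel η, U) := res (kernel η) hUW y
    have h0 : η.app U ((kernel.ι η).app U y') = 0 := by
      rw [← ConcreteCategory.comp_apply, ← Scheme.Modules.Hom.comp_app, kernel.condition]
      rfl
    have h1 := QCPull72.pullUnit_app_eq_zero i N (U := ⟨U, hU⟩) h0
    obtain ⟨s, hs⟩ : ∃ s : Γ(N, U), resO (A1 X) (le_top : U ≤ ⊤) (tc X) • s = (kernel.ι η).app U y' := by
      refine Submodule.smul_induction_on
        (p := fun z => ∃ s : Γ(N, U), resO (A1 X) (le_top : U ≤ ⊤) (tc X) • s = z) h1 ?_ ?_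
      · intro a ha z _
        rw [Scheme.IdealSheafData.ker_subschemeι, zI, Scheme.IdealSheafData.ofIdealTop_ideal,
          Ideal.map_span, Set.image_singleton] at ha
        obtain ⟨b, rfl⟩ := Ideal.mem_span_singleton.1 ha
        exact ⟨b • z, (mul_smul _ b z).symm⟩
      · rintro a b ⟨s, rfl⟩ ⟨s', rfl⟩
        exact ⟨s + s', smul_add _ _ _⟩
    refine ⟨U, hUW, s, hqU, app_injective_of_mono (kernel.ι η) U ?_⟩
    refine Eq.trans ?_ (hs : _ = (kernel.ι η).app U y')
    exact ((congrArg (fun g : N ⟶ N => g.app U s) (kernel.lift_ι η (smulT (tc X) N) w)) :)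
  haveI := mono_smulT M (ULift.up (0 : Fin 1))
  haveI := QCPull72.epi_pullUnit i N
  exact { exact := hex, mono_f := ‹_›, epi_g := ‹_› }

variable {X}

theorem bijective_restrict [IsNoetherian X] {U : Scheme.{u}} (j : U ⟶ A1 X) [IsOpenImmersion j]
    (hU : Set.range j = ((A1 X).basicOpen (tc X) : Set (A1 X)))
    [PreservesFiniteLimits (Scheme.Modules.restrictFunctor j)]
    (hj : ∀ M : (A1 X).Modules, Coh.IsCoh M → Coh.IsCoh ((Scheme.Modules.restrictFunctor j).obj M)) :
    Function.Bijective (SGA6.mapSub (Scheme.Modules.restrictFunctor j) (Dev46.cohP (A1 X))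
      (Dev46.cohP U) hj) := by
  haveI : CompactSpace (A1 X) := QuasiCompact.compactSpace_of_compactSpace (A1 X ↘ X)
  haveI : IsLocallyNoetherian (A1 X) := LocallyOfFiniteType.isLocallyNoetherian (A1 X ↘ X)
  haveI : IsNoetherian (A1 X) := {}
  let i := (zI X).subschemeι
  haveI : IsLocallyNoetherian (zI X).subscheme := LocallyOfFiniteType.isLocallyNoetherian i
  let adj := Scheme.Modules.pullbackPushforwardAdjunction i
  haveI : (Scheme.Modules.pushforward i).Additive := adj.right_adjoint_additive
  haveI := GSS45.ClosedHom.preservesFiniteLimits_pushforward i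
  haveI := GSS45.ClosedHom.preservesFiniteColimits_pushforward i
  have hi : ∀ M, Coh.IsCoh M → Coh.IsCoh ((Scheme.Modules.pushforward i).obj M) :=
    fun M hM => QC70.isCoh_pushforward i M hM
  obtain ⟨hsurj, hker⟩ := KLoc46.localization i j hi hj (by rw [range_zI, compl_compl, hU])
  refine ⟨(injective_iff_map_eq_zero _).2 fun x hx => ?_, hsurj⟩
  obtain ⟨y, rfl⟩ : x ∈ (SGA6.mapSub (Scheme.Modules.pushforward i) (Dev46.cohP _) (Dev46.cohP _) hi).range :=
    hker ▸ hx
  clear hx
  obtain ⟨z, rfl⟩ := QuotientAddGroup.mk_surjective y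
  induction z using FreeAbelianGroup.induction_on with
  | zero => exact map_zero _
  | of N =>
    rw [← KDer46.clSub_eq N.2, KLoc46.mapSub_clSub _ _ _ hi N.2]
    let π := i ≫ (A1 X ↘ X)
    haveI : IsIso π := isIso_zI_over X
    have hM : Coh.IsCoh ((Scheme.Modules.pushforward π).obj N.1) := QC70.isCoh_pushforward π N.1 N.2
    haveI := hM.1
    let M := (Scheme.Modules.pushforward π).obj N.1
    let P := (Scheme.Modules.pullback (A1 X ↘ X)).obj M
    haveI := hM.2
    have hP : Coh.IsCoh P :=
      ⟨QCPull72.isQuasicoherent_pullback _ M, QCPull72.isFiniteType_pullback _ M⟩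
    haveI := Dev46.isIso_counit π N.2
    let e : (Scheme.Modules.pullback i).obj P ≅ N.1 :=
      (Scheme.Modules.pullbackComp i (A1 X ↘ X)).app M ≪≫
        asIso ((Scheme.Modules.pullbackPushforwardAdjunction π).counit.app N.1)
    have hG : Coh.IsCoh ((Scheme.Modules.pushforward i).obj ((Scheme.Modules.pullback i).obj P)) :=
      hi _ (Dev46.isCoh_pullback i hP)
    have hes : KZero.clSub (Dev46.cohP (A1 X)) P = KZero.clSub (Dev46.cohP (A1 X)) P +
        KZero.clSub (Dev46.cohP (A1 X))
          ((Scheme.Modules.pushforward i).obj ((Scheme.Modules.pullback i).obj P)) :=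
      KDer46.clSub_add _ (shortExact_smulT X M) hP hP hG
    rw [← KDer46.clSub_iso ((Scheme.Modules.pushforward i).mapIso e)]
    exact left_eq_add.1 hes
  | neg z hz => rw [QuotientAddGroup.mk_neg, map_neg, hz, neg_zero]
  | add y z hy hz => rw [QuotientAddGroup.mk_add, map_add, hy, hz, add_zero]

end Groth.Agent.Torus46
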