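import Groth.Agent.QCPull72.Sections
import Groth.Agent.QC70.Hom
import Mathlib.AlgebraicGeometry.AffineSpace
import Mathlib.Algebra.MvPolynomial.Division

/-!
A coordinate of affine space is a nonzerodivisor on modules pulled back from the base.
-/

set_option autoImplicit false
set_option linter.unusedSectionVars false
set_option linter.style.haveILetI false
set_option backward.isDefEq.respectTransparency.types false

noncomputable section

universe u

open CategoryTheory CategoryTheory.Limits AlgebraicGeometry TopologicalSpace Opposite TensorProduct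
open Groth.Agent.QC70

namespace Groth.Agent.Torus46

variable {n : Type u} {X : Scheme.{u}}

/-- Multiplication by a global function. -/
def smulT {Y : Scheme.{u}} (t : Γ(Y, ⊤)) (N : Y.Modules) : N ⟶ N :=
  QC70.HomOn.toHom (
    { app := fun W hW =>
        { toFun := fun s => resO Y hW t • s
          map_add' := smul_add _
          map_smul' := fun a s => smul_comm _ a s }
      app_res := fun hW h s => by
        simp only [LinearMap.coe_mk, AddHom.coe_mk]
        rw [res_smul, resO_resO] } : QC70.HomOn N N ⊤)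

theorem smulT_app {Y : Scheme.{u}} (t : Γ(Y, ⊤)) (N : Y.Modules) (W : Y.Opens) (s : Γ(N, W)) :
    (smulT t N).app W s = resO Y (le_top : W ≤ ⊤) t • s := rfl

theorem smul_coord_injective (M : X.Modules) [M.IsQuasicoherent] (i : n) {U : X.Opens}
    (hU : IsAffineOpen U)
    (s : Γ((Scheme.Modules.pullback (𝔸(n; X) ↘ X)).obj M, (𝔸(n; X) ↘ X) ⁻¹ᵁ U))
    (hs : resO 𝔸(n; X) (le_top : (𝔸(n; X) ↘ X) ⁻¹ᵁ U ≤ ⊤) (AffineSpace.coord X i) • s = 0) :
    s = 0 := by
  classical
  let p : 𝔸(n; X) ⟶ X := 𝔸(n; X) ↘ X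
  let W : 𝔸(n; X).Opens := p ⁻¹ᵁ U
  have hW : IsAffineOpen W := hU.preimage p
  let R : CommRingCat.{u} := Γ(X, U)
  let Q : CommRingCat.{u} := CommRingCat.of (MvPolynomial n R)
  let g : Spec Q ⟶ 𝔸(n; X) := (AffineSpace.SpecIso n R).inv ≫ AffineSpace.map n hU.fromSpec
  have hg : g ≫ p = Spec.map (CommRingCat.ofHom MvPolynomial.C) ≫ hU.fromSpec := by
    simp [g, p]
  haveI : IsOpenImmersion (AffineSpace.map n hU.fromSpec) :=
    MorphismProperty.of_isPullback (AffineSpace.isPullback_map (n := n) hU.fromSpec).flip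
      (inferInstance : IsOpenImmersion hU.fromSpec)
  have hrange : g.opensRange = W := by
    refine Opens.ext ?_
    change Set.range g = p ⁻¹' (U : Set X)
    have h1 : Set.range g = Set.range (AffineSpace.map n hU.fromSpec) := by
      simp only [g, Scheme.Hom.comp_base, TopCat.coe_comp]
      exact (AffineSpace.SpecIso n R).inv.surjective.range_comp _
    let sq := AffineSpace.isPullback_map (n := n) hU.fromSpec
    rw [h1, ← sq.isoPullback_hom_fst, Scheme.Hom.comp_base, TopCat.coe_comp,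
      sq.isoPullback.hom.surjective.range_comp, Scheme.Pullback.range_fst, hU.range_fromSpec]
  have he : ⊤ ≤ g ⁻¹ᵁ W := fun z _ => hrange.le ⟨z, rfl⟩
  haveI : IsIso (g.app W) := g.isIso_app W hrange.ge
  haveI : IsIso ((Spec Q).presheaf.map (homOfLE he).op) := by
    haveI : IsIso (homOfLE he) := ⟨homOfLE le_top, rfl, rfl⟩
    infer_instance
  haveI : IsIso (g.appLE W ⊤ he) := by
    rw [Scheme.Hom.appLE]
    infer_instance
  let θ : Γ(𝔸(n; X), W) ⟶ Q := g.appLE W ⊤ he ≫ (Scheme.ΓSpecIso Q).hom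
  have hθ : Function.Bijective θ := ConcreteCategory.bijective_of_isIso θ
  let t : Γ(𝔸(n; X), W) := resO 𝔸(n; X) (le_top : W ≤ ⊤) (AffineSpace.coord X i)
  have ht : θ t = MvPolynomial.X i := by
    have h1 : g.appLE W ⊤ he t = g.appTop (AffineSpace.coord X i) := by
      change (𝔸(n; X).presheaf.map (homOfLE (le_top : W ≤ ⊤)).op ≫ g.appLE W ⊤ he)
        (AffineSpace.coord X i) = _
      rw [Scheme.Hom.map_appLE]
      simp [Scheme.Hom.appLE]
    have h2 : g.appTop (AffineSpace.coord X i) = (Scheme.ΓSpecIso Q).inv (MvPolynomial.X i) := by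
      change ((AffineSpace.SpecIso n R).inv ≫ AffineSpace.map n hU.fromSpec).appTop _ = _
      rw [Scheme.Hom.comp_appTop, CommRingCat.comp_apply, AffineSpace.map_appTop_coord,
        AffineSpace.SpecIso_inv_appTop_coord]
    change (Scheme.ΓSpecIso Q).hom (g.appLE W ⊤ he t) = _
    rw [h1, h2]
    exact Iso.inv_hom_id_apply (Scheme.ΓSpecIso Q) _
  have hC : p.appLE U W le_rfl ≫ θ = CommRingCat.ofHom MvPolynomial.C := by
    have h1 : p.appLE U W le_rfl ≫ g.appLE W ⊤ he = (g ≫ p).appLE U ⊤ he :=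
      Scheme.Hom.appLE_comp_appLE _ _ _ _ _ _ _
    have h2 : (g ≫ p).appLE U ⊤ he =
        (Spec.map (CommRingCat.ofHom MvPolynomial.C) ≫ hU.fromSpec).appLE U ⊤ (hg ▸ he) := by
      congr 1
    have h3 : (Spec.map (CommRingCat.ofHom (MvPolynomial.C (σ := n) (R := R))) ≫ hU.fromSpec).appLE U ⊤
        (hg ▸ he) = (Scheme.ΓSpecIso R).inv ≫
          (Spec.map (CommRingCat.ofHom (MvPolynomial.C (σ := n) (R := R)))).appTop := by
      rw [Scheme.Hom.comp_appLE, hU.fromSpec_app_self, Category.assoc, Scheme.Hom.map_appLE]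
      simp [Scheme.Hom.appLE]
      rfl
    change p.appLE U W le_rfl ≫ g.appLE W ⊤ he ≫ (Scheme.ΓSpecIso Q).hom = _
    rw [reassoc_of% h1, h2, h3, Category.assoc, ← Scheme.ΓSpecIso_inv_naturality_assoc, Iso.inv_hom_id,
      Category.comp_id]
  letI := (p.appLE U W le_rfl).hom.toAlgebra
  letI : Algebra R Γ(𝔸(n; X), W) := (p.appLE U W le_rfl).hom.toAlgebra
  let θ' : Γ(𝔸(n; X), W) ≃+* MvPolynomial n R := RingEquiv.ofBijective θ.hom hθ
  have hθC : ∀ r : R, θ' (algebraMap R Γ(𝔸(n; X), W) r) = MvPolynomial.C r := fun r =>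
    congr((CommRingCat.Hom.hom $hC) r)
  let ℓ : Γ(𝔸(n; X), W) →ₗ[R] Γ(𝔸(n; X), W) :=
    { toFun := fun b => θ'.symm ((θ' b).divMonomial (Finsupp.single i 1))
      map_add' := fun a b => by rw [map_add, MvPolynomial.add_divMonomial, map_add]
      map_smul' := fun r b => by
        refine θ'.injective ?_
        rw [RingHom.id_apply, Algebra.smul_def, Algebra.smul_def, map_mul, map_mul,
          θ'.apply_symm_apply, θ'.apply_symm_apply, hθC]
        refine MvPolynomial.ext _ _ fun d => ?_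
        simp [MvPolynomial.coeff_divMonomial] }
  let μ : Γ(𝔸(n; X), W) →ₗ[R] Γ(𝔸(n; X), W) := LinearMap.mulLeft R t
  have hℓμ : ℓ ∘ₗ μ = LinearMap.id := by
    refine LinearMap.ext fun b => ?_
    change θ'.symm ((θ' (t * b)).divMonomial (Finsupp.single i 1)) = b
    rw [map_mul, show θ' t = MvPolynomial.X i from ht, MvPolynomial.X_mul_divMonomial,
      θ'.symm_apply_apply]
  let E := QCPull72.sectionsPullbackEquiv p M hU hW (le_refl W)
  have hzero : μ.rTensor Γ(M, U) (E s) = 0 := by
    have h1 : μ.rTensor Γ(M, U) (E s) = t • E s := by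
      induction E s using TensorProduct.induction_on with
      | zero => simp
      | tmul b m => rfl
      | add x y hx hy => rw [map_add, hx, hy, smul_add]
    rw [h1, ← map_smul, show t • s = 0 from hs, map_zero]
  have := congrArg (ℓ.rTensor Γ(M, U)) hzero
  rw [← LinearMap.comp_apply, ← LinearMap.rTensor_comp, hℓμ, LinearMap.rTensor_id, map_zero,
    LinearMap.id_apply] at this
  exact (LinearEquiv.map_eq_zero_iff E).1 this

theorem mono_smulT (M : X.Modules) [M.IsQuasicoherent] (i : n) :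
    Mono (smulT (AffineSpace.coord X i) ((Scheme.Modules.pullback (𝔸(n; X) ↘ X)).obj M)) := by
  let p : 𝔸(n; X) ⟶ X := 𝔸(n; X) ↘ X
  let N := (Scheme.Modules.pullback p).obj M
  haveI : N.IsQuasicoherent := QCPull72.isQuasicoherent_pullback p M
  refine mono_of_app_injective _ fun V => ?_
  rw [injective_iff_map_eq_zero]
  intro x hx
  refine section_ext N x 0 fun q hq => ?_
  obtain ⟨_, ⟨U, hU, rfl⟩, hqU, -⟩ :=
    X.isBasis_affineOpens.exists_subset_of_mem_open (Set.mem_univ (p q)) isOpen_univ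
  have hW : IsAffineOpen (p ⁻¹ᵁ U) := hU.preimage p
  obtain ⟨f, hfle, hqf⟩ := hW.exists_basicOpen_le ⟨q, hq⟩ hqU
  refine ⟨𝔸(n; X).basicOpen f, hfle, hqf, ?_⟩
  rw [res_zero]
  have hN := isLocAt_of_isQuasicoherent N hW
  obtain ⟨k, t, ht⟩ := hN.exists_of f (res N hfle x)
  let c := AffineSpace.coord X i
  have hx' : resO _ (le_top : 𝔸(n; X).basicOpen f ≤ ⊤) c • res N hfle x = 0 := by
    rw [← smulT_app, app_res, hx, res_zero]
  have ht0 : res N (𝔸(n; X).basicOpen_le f)
      (resO _ (le_top : p ⁻¹ᵁ U ≤ ⊤) c • t) = 0 := by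
    rw [res_smul, resO_resO, ht, smul_comm, hx', smul_zero]
  obtain ⟨m, hm⟩ := hN.eq_zero_of f _ ht0
  rw [smul_comm] at hm
  have h0 : f ^ m • t = 0 := smul_coord_injective M i hU _ hm
  have h1 := congrArg (res N (𝔸(n; X).basicOpen_le f)) h0
  rw [res_smul, ht, res_zero, ← smul_assoc, smul_eq_mul] at h1
  have hu : IsUnit (resO 𝔸(n; X) (𝔸(n; X).basicOpen_le f) (f ^ m) *
      resO 𝔸(n; X) (𝔸(n; X).basicOpen_le f) f ^ k) := by
    refine IsUnit.mul ?_ ((RingedSpace.isUnit_res_basicOpen _ f).pow _)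
    simp only [resO, map_pow]
    exact (RingedSpace.isUnit_res_basicOpen _ f).pow _
  exact (IsUnit.smul_eq_zero hu).1 h1

end Groth.Agent.Torus46
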